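import Mathlib.RingTheory.MvPolynomial.Homogeneous
import Mathlib.RingTheory.Filtration

/-!
# Functionals on powers of an ideal as a graded map to a polynomial ring
-/

set_option autoImplicit false
universe u
open scoped BigOperators

namespace Groth.Agent.GradedPhi

variable {A : Type u} [CommRing A] {I : Ideal A} {c : ℕ} {r : ℕ}

/-- A functional on `I ^ c`, extended by zero. -/
noncomputable def ext0 (φ : ↥(I ^ c) →ₗ[A] A) (g : A) : A := by
  classical exact if h : g ∈ I ^ c then φ ⟨g, h⟩ else 0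

theorem ext0_of_mem (φ : ↥(I ^ c) →ₗ[A] A) {g : A} (h : g ∈ I ^ c) :
    ext0 φ g = φ ⟨g, h⟩ := by rw [ext0, dif_pos h]

theorem ext0_add (φ : ↥(I ^ c) →ₗ[A] A) {g h : A} (hg : g ∈ I ^ c) (hh : h ∈ I ^ c) :
    ext0 φ (g + h) = ext0 φ g + ext0 φ h := by
  rw [ext0_of_mem φ (add_mem hg hh), ext0_of_mem φ hg, ext0_of_mem φ hh, ← map_add]
  rfl

theorem ext0_mul (φ : ↥(I ^ c) →ₗ[A] A) (a : A) {g : A} (hg : g ∈ I ^ c) :
    ext0 φ (a * g) = a * ext0 φ g := by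
  rw [ext0_of_mem φ (Ideal.mul_mem_left _ a hg), ext0_of_mem φ hg]
  exact map_smul φ a ⟨g, hg⟩

theorem ext0_mul_right (φ : ↥(I ^ c) →ₗ[A] A) {g : A} (hg : g ∈ I ^ c) (a : A) :
    ext0 φ (g * a) = a * ext0 φ g := by rw [mul_comm g a, ext0_mul φ a hg]

/-- `φ (I ^ (d + n)) ⊆ I ^ n` for `c ≤ d`. -/
theorem ext0_mem (φ : ↥(I ^ c) →ₗ[A] A) {d : ℕ} (hd : c ≤ d) (n : ℕ) {g : A}
    (hg : g ∈ I ^ (d + n)) : ext0 φ g ∈ I ^ n := by
  have hle : I ^ (d + n) ≤ I ^ c := Ideal.pow_le_pow_right (hd.trans (Nat.le_add_right _ _))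
  suffices hle' : g ∈ I ^ c ∧ ext0 φ g ∈ I ^ n from hle'.2
  rw [pow_add] at hg
  refine Submodule.mul_induction_on hg (fun x hx y hy => ?_) (fun x y hx hy => ?_)
  · have hxc : x ∈ I ^ c := Ideal.pow_le_pow_right hd hx
    refine ⟨Ideal.mul_mem_right y _ hxc, ?_⟩
    rw [ext0_mul_right φ hxc y]
    exact Ideal.mul_mem_right _ _ hy
  · exact ⟨add_mem hx.1 hy.1, by rw [ext0_add φ hx.1 hy.1]; exact add_mem hx.2 hy.2⟩

theorem mem_pow_of_succ (n : ℕ) {g : A} (hg : g ∈ I ^ ((n + 1) * c)) :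
    g ∈ I ^ c := Ideal.pow_le_pow_right (Nat.le_mul_of_pos_left c n.succ_pos) hg

theorem ext0_mem_succ (φ : ↥(I ^ c) →ₗ[A] A) {d : ℕ} (hd : c ≤ d) (n : ℕ) {g : A}
    (hg : g ∈ I ^ ((n + 1) * d)) : ext0 φ g ∈ I ^ (n * d) :=
  ext0_mem φ hd (n * d) (by rwa [show d + n * d = (n + 1) * d by ring])

/-- The graded map. -/
noncomputable def Phi (φ : Fin r → (↥(I ^ c) →ₗ[A] A)) : ℕ → A → MvPolynomial (Fin r) A
  | 0, a => MvPolynomial.C a
  | n + 1, g => ∑ j, MvPolynomial.X j * Phi φ n (ext0 (φ j) g)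

variable (φ : Fin r → (↥(I ^ c) →ₗ[A] A))

theorem Phi_add (n : ℕ) : ∀ g ∈ I ^ (n * c), ∀ h ∈ I ^ (n * c),
    Phi φ n (g + h) = Phi φ n g + Phi φ n h := by
  induction n with
  | zero => intro g _ h _; exact map_add _ _ _
  | succ n ih =>
    intro g hg h hh
    simp only [Phi]
    rw [← Finset.sum_add_distrib]
    refine Finset.sum_congr rfl fun j _ => ?_
    rw [ext0_add _ (mem_pow_of_succ n hg) (mem_pow_of_succ n hh),
      ih _ (ext0_mem_succ _ le_rfl n hg) _ (ext0_mem_succ _ le_rfl n hh), mul_add]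

theorem Phi_mul_left (n : ℕ) : ∀ (a : A), ∀ g ∈ I ^ (n * c), Phi φ n (a * g) = a • Phi φ n g := by
  induction n with
  | zero => intro a g _; simp [Phi, MvPolynomial.smul_eq_C_mul]
  | succ n ih =>
    intro a g hg
    simp only [Phi]
    rw [Finset.smul_sum]
    refine Finset.sum_congr rfl fun j _ => ?_
    rw [ext0_mul _ a (mem_pow_of_succ n hg), ih a _ (ext0_mem_succ _ le_rfl n hg), mul_smul_comm]

theorem Phi_isHomogeneous (n : ℕ) : ∀ g : A, (Phi φ n g).IsHomogeneous n := by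
  induction n with
  | zero => intro g; exact MvPolynomial.isHomogeneous_C _ g
  | succ n ih =>
    intro g
    simp only [Phi]
    refine MvPolynomial.IsHomogeneous.sum _ _ _ fun j _ => ?_
    rw [add_comm n 1]
    exact (MvPolynomial.isHomogeneous_X A j).mul (ih _)

theorem Phi_mul (n : ℕ) : ∀ (m : ℕ), ∀ g ∈ I ^ (n * c), ∀ h ∈ I ^ (m * c),
    Phi φ (n + m) (g * h) = Phi φ n g * Phi φ m h := by
  induction n with
  | zero =>
    intro m g _ h hh
    rw [Nat.zero_add, Phi_mul_left φ m g h hh, MvPolynomial.smul_eq_C_mul]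
    rfl
  | succ n ih =>
    intro m g hg h hh
    rw [Nat.succ_add n m]
    simp only [Phi]
    rw [Finset.sum_mul]
    refine Finset.sum_congr rfl fun j _ => ?_
    rw [ext0_mul_right _ (mem_pow_of_succ n hg) h, mul_comm h,
      ih m _ (ext0_mem_succ _ le_rfl n hg) h hh, mul_assoc]

theorem Phi_one {g : A} (hg : g ∈ I ^ c) :
    Phi φ 1 g = ∑ j, MvPolynomial.C (φ j ⟨g, hg⟩) * MvPolynomial.X j := by
  simp only [Phi]
  exact Finset.sum_congr rfl fun j _ => by rw [ext0_of_mem _ hg, mul_comm]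

/-- The recursion holds for every family with the algebraic properties. -/
theorem eq_sum {d : ℕ} (hd : c ≤ d) (Ψ : ℕ → A → MvPolynomial (Fin r) A)
    (hadd : ∀ n : ℕ, ∀ g ∈ I ^ (n * d), ∀ h ∈ I ^ (n * d), Ψ n (g + h) = Ψ n g + Ψ n h)
    (hsmul : ∀ (n : ℕ) (a : A), ∀ g ∈ I ^ (n * d), Ψ n (a * g) = a • Ψ n g)
    (hmul : ∀ n m : ℕ, ∀ g ∈ I ^ (n * d), ∀ h ∈ I ^ (m * d), Ψ (n + m) (g * h) = Ψ n g * Ψ m h)
    (hone : ∀ (g : A) (hg : g ∈ I ^ d),
      Ψ 1 g = ∑ j, MvPolynomial.C (φ j ⟨g, Ideal.pow_le_pow_right hd hg⟩) * MvPolynomial.X j)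
    (n : ℕ) {g : A} (hg : g ∈ I ^ ((n + 1) * d)) :
    Ψ (n + 1) g = ∑ j, MvPolynomial.X j * Ψ n (ext0 (φ j) g) := by
  suffices h : g ∈ I ^ ((n + 1) * d) ∧
      Ψ (n + 1) g = ∑ j, MvPolynomial.X j * Ψ n (ext0 (φ j) g) from h.2
  have hg' : g ∈ I ^ d * I ^ (n * d) := by
    rwa [← pow_add, show d + n * d = (n + 1) * d by ring]
  refine Submodule.mul_induction_on hg' (fun x hx y hy => ?_) (fun x y hx hy => ?_)
  · have hxy : x * y ∈ I ^ ((n + 1) * d) := by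
      rw [show (n + 1) * d = d + n * d by ring, pow_add]
      exact Ideal.mul_mem_mul hx hy
    refine ⟨hxy, ?_⟩
    have hx1 : x ∈ I ^ (1 * d) := by rwa [one_mul]
    rw [add_comm n 1, hmul 1 n x hx1 y hy, hone x hx, Finset.sum_mul]
    refine Finset.sum_congr rfl fun j _ => ?_
    have hxc : x ∈ I ^ c := Ideal.pow_le_pow_right hd hx
    rw [ext0_mul_right _ hxc y, mul_comm y, hsmul n _ y hy, ext0_of_mem _ hxc,
      MvPolynomial.smul_eq_C_mul]
    ring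
  · refine ⟨add_mem hx.1 hy.1, ?_⟩
    rw [hadd (n + 1) x hx.1 y hy.1, hx.2, hy.2, ← Finset.sum_add_distrib]
    refine Finset.sum_congr rfl fun j _ => ?_
    have hxc : x ∈ I ^ c := Ideal.pow_le_pow_right hd
      (Ideal.pow_le_pow_right (Nat.le_mul_of_pos_left d n.succ_pos) hx.1)
    have hyc : y ∈ I ^ c := Ideal.pow_le_pow_right hd
      (Ideal.pow_le_pow_right (Nat.le_mul_of_pos_left d n.succ_pos) hy.1)
    rw [ext0_add _ hxc hyc,
      hadd n _ (ext0_mem_succ _ hd n hx.1) _ (ext0_mem_succ _ hd n hy.1), mul_add]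

/-- Substituting the generators gives back the element. -/
theorem aeval_eq {d : ℕ} (hd : c ≤ d) (f : Fin r → A)
    (hφ : ∀ x : ↥(I ^ c), (x : A) = ∑ j, f j * φ j x)
    (Ψ : ℕ → A → MvPolynomial (Fin r) A) (h0 : ∀ a : A, Ψ 0 a = MvPolynomial.C a)
    (hrec : ∀ (n : ℕ), ∀ g ∈ I ^ ((n + 1) * d),
      Ψ (n + 1) g = ∑ j, MvPolynomial.X j * Ψ n (ext0 (φ j) g)) (n : ℕ) :
    ∀ g ∈ I ^ (n * d), MvPolynomial.aeval f (Ψ n g) = g := by
  induction n with
  | zero => intro g _; simp [h0]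
  | succ n ih =>
    intro g hg
    have hgc : g ∈ I ^ c := Ideal.pow_le_pow_right hd
      (Ideal.pow_le_pow_right (Nat.le_mul_of_pos_left d n.succ_pos) hg)
    rw [hrec n g hg, map_sum]
    conv_rhs => rw [show g = ((⟨g, hgc⟩ : ↥(I ^ c)) : A) from rfl, hφ]
    refine Finset.sum_congr rfl fun j _ => ?_
    rw [map_mul, MvPolynomial.aeval_X, ih _ (ext0_mem_succ _ hd n hg), ext0_of_mem _ hgc]

end Groth.Agent.GradedPhi
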