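import Groth.Agent.GradedPhi.Basic
import Mathlib.RingTheory.Filtration
import Mathlib.RingTheory.TensorProduct.Basic
import Mathlib.LinearAlgebra.Isomorphisms
import Mathlib.LinearAlgebra.Finsupp.LinearCombination

/-!
# The graded map on modules
-/

set_option autoImplicit false
universe u
open scoped BigOperators TensorProduct

namespace Groth.Agent.GradedPhi

variable {A : Type u} [CommRing A] (I : Ideal A) (B : Type u) [CommRing B] [Algebra A B]
  (N : Type u) [AddCommGroup N] [Module B N]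

/-- `(I ^ e) N` as a span. -/
noncomputable abbrev Spn (e : ℕ) : Submodule B N :=
  Submodule.span B {y : N | ∃ g ∈ I ^ e, ∃ x : N, y = algebraMap A B g • x}

theorem gen_mem {e : ℕ} {g : A} (hg : g ∈ I ^ e) (x : N) : algebraMap A B g • x ∈ Spn I B N e :=
  Submodule.subset_span ⟨g, hg, x, rfl⟩

theorem spn_mono {e e' : ℕ} (h : e ≤ e') : Spn I B N e' ≤ Spn I B N e :=
  Submodule.span_mono fun _ ⟨g, hg, x, hy⟩ => ⟨g, Ideal.pow_le_pow_right h hg, x, hy⟩

theorem ext_spn {e : ℕ} {T : Type u} [AddCommGroup T] [Module B T]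
    (P Q : ↥(Spn I B N e) →ₗ[B] T)
    (h : ∀ (g : A) (hg : g ∈ I ^ e) (x : N),
      P ⟨algebraMap A B g • x, gen_mem I B N hg x⟩ = Q ⟨algebraMap A B g • x, gen_mem I B N hg x⟩) :
    P = Q := by
  refine LinearMap.ext fun y => ?_
  obtain ⟨y, hy⟩ := y
  induction hy using Submodule.span_induction with
  | mem y hy =>
    obtain ⟨g, hg, x, rfl⟩ := hy
    exact h g hg x
  | zero => exact (map_zero P).trans (map_zero Q).symm
  | add y z hy hz h1 h2 =>
    rw [show (⟨y + z, _⟩ : ↥(Spn I B N e)) = ⟨y, hy⟩ + ⟨z, hz⟩ from rfl, map_add, map_add, h1, h2]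
  | smul a y hy h1 =>
    rw [show (⟨a • y, _⟩ : ↥(Spn I B N e)) = a • ⟨y, hy⟩ from rfl, map_smul, map_smul, h1]

/-- Artin–Rees: torsion elements deep in the filtration vanish. -/
theorem exists_bound [IsNoetherianRing B] [Module.Finite B N] (c : ℕ) :
    ∃ m : ℕ, ∀ y ∈ ((I.map (algebraMap A B)) ^ m • ⊤ : Submodule B N),
      (∀ h ∈ I ^ c, algebraMap A B h • y = 0) → y = 0 := by
  let T : Submodule B N :=
    { carrier := {y | ∀ h ∈ I ^ c, algebraMap A B h • y = 0}
      add_mem' := fun {y z} hy hz h hh => by rw [smul_add, hy h hh, hz h hh, add_zero]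
      zero_mem' := fun h _ => smul_zero _
      smul_mem' := fun a y hy h hh => by rw [smul_comm, hy h hh, smul_zero] }
  obtain ⟨k, hk⟩ := Ideal.exists_pow_inf_eq_pow_smul (I.map (algebraMap A B)) T
  refine ⟨k + c, fun y hy hT => ?_⟩
  have h1 : y ∈ ((I.map (algebraMap A B)) ^ (k + c) • ⊤ : Submodule B N) ⊓ T := ⟨hy, hT⟩
  rw [hk (k + c) (Nat.le_add_right _ _), Nat.add_sub_cancel_left] at h1
  refine Submodule.smul_induction_on h1 (fun a ha z hz => ?_) (fun a b ha hb => by rw [ha, hb, add_zero])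
  rw [← Ideal.map_pow] at ha
  have hzT : z ∈ T := hz.2
  induction ha using Submodule.span_induction with
  | mem a ha =>
    obtain ⟨h, hh, rfl⟩ := ha
    exact hzT h hh
  | zero => exact zero_smul B z
  | add a b _ _ h1 h2 => rw [add_smul, h1, h2, add_zero]
  | smul b a _ h1 => rw [smul_assoc, h1, smul_zero]

variable {I B N}

theorem exists_phiN {c m : ℕ}
    (hm : ∀ y ∈ ((I.map (algebraMap A B)) ^ m • ⊤ : Submodule B N),
      (∀ h ∈ I ^ c, algebraMap A B h • y = 0) → y = 0) (φ : ↥(I ^ c) →ₗ[A] A) :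
    ∃ L : ↥(Spn I B N (c + m)) →ₗ[B] N, ∀ (g : A) (hg : g ∈ I ^ (c + m)) (x : N),
      L ⟨algebraMap A B g • x, gen_mem I B N hg x⟩ = algebraMap A B (ext0 φ g) • x := by
  classical
  let α : ((↥(I ^ (c + m)) × N) →₀ B) →ₗ[B] N :=
    Finsupp.linearCombination B (fun p => algebraMap A B (p.1 : A) • p.2)
  let β : ((↥(I ^ (c + m)) × N) →₀ B) →ₗ[B] N :=
    Finsupp.linearCombination B (fun p => algebraMap A B (ext0 φ (p.1 : A)) • p.2)
  have hsub : ∀ p : ↥(I ^ (c + m)) × N, (p.1 : A) ∈ I ^ c := fun p =>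
    Ideal.pow_le_pow_right (Nat.le_add_right c m) p.1.2
  have hker : LinearMap.ker α ≤ LinearMap.ker β := by
    intro z hz
    rw [LinearMap.mem_ker] at hz ⊢
    apply hm
    · rw [Finsupp.linearCombination_apply]
      refine Submodule.sum_mem _ fun p _ => Submodule.smul_mem _ _ (Submodule.smul_mem_smul ?_ Submodule.mem_top)
      rw [← Ideal.map_pow]
      exact Ideal.mem_map_of_mem _ (ext0_mem φ le_rfl m p.1.2)
    · intro h hh
      have key : ∀ z, algebraMap A B h • β z = algebraMap A B (ext0 φ h) • α z := by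
        intro z
        rw [← LinearMap.smul_apply, ← LinearMap.smul_apply]
        refine LinearMap.congr_fun (Finsupp.lhom_ext fun p b => ?_) z
        simp only [α, β, LinearMap.smul_apply, Finsupp.linearCombination_single, smul_smul,
          ← mul_assoc, mul_comm _ b]
        rw [mul_assoc b, mul_assoc b, ← map_mul, ← map_mul, ← ext0_mul φ h (hsub p),
          ext0_mul_right φ hh (p.1 : A), mul_comm (ext0 φ h)]
      rw [key z, hz, smul_zero]
  have hrange : Spn I B N (c + m) ≤ LinearMap.range α := by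
    refine Submodule.span_le.2 ?_
    rintro _ ⟨g, hg, x, rfl⟩
    exact ⟨Finsupp.single (⟨g, hg⟩, x) 1, by simp [α]⟩
  refine ⟨((LinearMap.ker α).liftQ β hker).comp
    ((LinearMap.quotKerEquivRange α).symm.toLinearMap.comp (Submodule.inclusion hrange)),
    fun g hg x => ?_⟩
  have hz : α (Finsupp.single (⟨g, hg⟩, x) 1) = algebraMap A B g • x := by simp [α]
  have : (LinearMap.quotKerEquivRange α).symm
      (Submodule.inclusion hrange ⟨algebraMap A B g • x, gen_mem I B N hg x⟩) =
      Submodule.Quotient.mk (Finsupp.single (⟨g, hg⟩, x) 1) := by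
    rw [LinearEquiv.symm_apply_eq]
    exact Subtype.ext hz.symm
  show (LinearMap.ker α).liftQ β hker _ = _
  erw [this]
  simp [β]

theorem exists_psi {c m r : ℕ} (φ : Fin r → (↥(I ^ c) →ₗ[A] A))
    (hm : ∀ y ∈ ((I.map (algebraMap A B)) ^ m • ⊤ : Submodule B N),
      (∀ h ∈ I ^ c, algebraMap A B h • y = 0) → y = 0)
    (Φ : ℕ → A → MvPolynomial (Fin r) A) (h0 : ∀ a : A, Φ 0 a = MvPolynomial.C a)
    (hrec : ∀ (n : ℕ), ∀ g ∈ I ^ ((n + 1) * (c + m)),
      Φ (n + 1) g = ∑ j, MvPolynomial.X j * Φ n (ext0 (φ j) g)) (n : ℕ) :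
    ∃ Ψ : ↥(Spn I B N (n * (c + m))) →ₗ[B] (MvPolynomial (Fin r) B ⊗[B] N),
      ∀ (g : A) (hg : g ∈ I ^ (n * (c + m))) (x : N),
        Ψ ⟨algebraMap A B g • x, gen_mem I B N hg x⟩ =
          MvPolynomial.map (algebraMap A B) (Φ n g) ⊗ₜ[B] x := by
  induction n with
  | zero =>
    refine ⟨(TensorProduct.mk B (MvPolynomial (Fin r) B) N 1).comp (Submodule.subtype _),
      fun g hg x => ?_⟩
    rw [h0, MvPolynomial.map_C]
    simp only [LinearMap.comp_apply, Submodule.coe_subtype, TensorProduct.mk_apply]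
    rw [← TensorProduct.smul_tmul, MvPolynomial.smul_eq_C_mul, mul_one]
  | succ n ih =>
    obtain ⟨Ψ, hΨ⟩ := ih
    choose L hL using fun j => exists_phiN hm (φ j)
    have hle : Spn I B N ((n + 1) * (c + m)) ≤ Spn I B N (c + m) :=
      spn_mono I B N (Nat.le_mul_of_pos_left _ n.succ_pos)
    have hmaps : ∀ (j : Fin r) (y : ↥(Spn I B N ((n + 1) * (c + m)))),
        L j (Submodule.inclusion hle y) ∈ Spn I B N (n * (c + m)) := by
      intro j y
      obtain ⟨y, hy⟩ := y
      induction hy using Submodule.span_induction with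
      | mem y hy =>
        obtain ⟨g, hg, x, rfl⟩ := hy
        erw [hL j g (Ideal.pow_le_pow_right (Nat.le_mul_of_pos_left _ n.succ_pos) hg) x]
        exact gen_mem I B N (ext0_mem_succ _ (Nat.le_add_right c m) n hg) x
      | zero =>
        show L j 0 ∈ _
        rw [map_zero]
        exact zero_mem _
      | add y z hy hz h1 h2 =>
        show L j (Submodule.inclusion hle (⟨y, hy⟩ + ⟨z, hz⟩)) ∈ _
        rw [map_add, map_add]
        exact add_mem h1 h2
      | smul a y hy h1 =>
        show L j (Submodule.inclusion hle (a • ⟨y, hy⟩)) ∈ _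
        rw [map_smul, map_smul]
        exact Submodule.smul_mem _ a h1
    refine ⟨∑ j, ((LinearMap.mulLeft B (MvPolynomial.X j : MvPolynomial (Fin r) B)).rTensor N).comp
      (Ψ.comp (LinearMap.codRestrict _ ((L j).comp (Submodule.inclusion hle)) (hmaps j))),
      fun g hg x => ?_⟩
    rw [hrec n g hg, map_sum, TensorProduct.sum_tmul, LinearMap.sum_apply]
    refine Finset.sum_congr rfl fun j _ => ?_
    have hg' : ext0 (φ j) g ∈ I ^ (n * (c + m)) := ext0_mem_succ _ (Nat.le_add_right c m) n hg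
    have hval : LinearMap.codRestrict (Spn I B N (n * (c + m)))
        ((L j).comp (Submodule.inclusion hle)) (hmaps j) ⟨algebraMap A B g • x, gen_mem I B N hg x⟩ =
        ⟨algebraMap A B (ext0 (φ j) g) • x, gen_mem I B N hg' x⟩ :=
      Subtype.ext (hL j g (Ideal.pow_le_pow_right (Nat.le_mul_of_pos_left _ n.succ_pos) hg) x)
    rw [LinearMap.comp_apply, LinearMap.comp_apply, hval, hΨ _ hg' x, map_mul, MvPolynomial.map_X]
    rfl

end Groth.Agent.GradedPhi
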